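import Groth.Agent.IntShAcycLib.Proj
import Groth.Agent.CohCmpLib.FibreRowsBC
import Groth.Agent.QCohLib.Coherent
import Groth.Agent.KFlatLib.PullTensor

/-!
# Base change of twisted push-forwards
-/

set_option autoImplicit false
set_option linter.style.haveILetI false
set_option linter.unusedSectionVars false
set_option backward.isDefEq.respectTransparency false
set_option backward.isDefEq.respectTransparency.types false
set_option maxHeartbeats 1000000

universe u v v' w w'

open CategoryTheory CategoryTheory.Limits AlgebraicGeometry TopologicalSpace Opposite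
open LambdaRing CubeConsLib
open Groth.Agent.KHeartLib (clSub_congr)

noncomputable section

namespace IntShAcyc

open Groth.Agent

variable {X Y X' Y' : Scheme.{u}} {π : X ⟶ Y} {h : Y' ⟶ Y} {q₁ : X' ⟶ X} {q₂ : X' ⟶ Y'}

theorem subsingleton_sec_of_isZero {G : Y.Modules} (hz : IsZero G) (V : Y.Opens) : Subsingleton Γ(G, V) := by
  rw [IsZero.iff_id_eq_zero] at hz
  exact subsingleton_of_forall_eq 0 fun z => congr(Scheme.Modules.Hom.app $hz V z)

/-- Flat families without higher direct images stay so and commute with base change. -/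
theorem bc_acyclic [IsProper π] [LocallyOfFinitePresentation π] [HasInjectiveResolutions X.Modules]
    [HasInjectiveResolutions X'.Modules] {G : X.Modules} [Coh.IsQCoh G] (hfp : CohB1.IsFP G)
    (hfl : FlatMod.IsFlatOver π G) (H : IsPullback q₁ q₂ π h)
    (hz : ∀ p : ℕ, 0 < p → IsZero ((Coh.Rpush π p).obj G)) :
    (∀ p : ℕ, 0 < p → IsZero ((Coh.Rpush q₂ p).obj ((Scheme.Modules.pullback q₁).obj G))) ∧
      IsIso (CohBC.bc0 π h q₂ q₁ H.w G) := by
  obtain ⟨Δ, ⟨E⟩⟩ := CohCmpLib.exists_sectCmp π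
  obtain ⟨Δ', ⟨E'⟩⟩ := CohCmpLib.exists_sectCmp q₂
  let B := CohCmpLib.genBC H.w E E'
  have hc : ∀ p z, CohCmpLib.CompatAt π G p z := fun p z => by
    obtain ⟨W, K, hW, hzW⟩ := CohCmpLib.exists_chart_at hfp hfl z
    refine ⟨W, K, W, le_rfl, hW, hzW, K.flAt_of_flat_above E hW le_rfl p (fun i hi => ?_) (p + 1) (Nat.lt_succ_self p)⟩
    haveI := subsingleton_sec_of_isZero (hz i (Nat.zero_lt_of_lt hi)) W
    infer_instance
  refine ⟨fun p hp => ?_, ?_⟩
  · haveI : IsIso (B.bc p G) := CohCmpLib.isIso_bc_of_compatAt E H E' B p fun z => hc p _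
    exact (Functor.map_isZero (Scheme.Modules.pullback h) (hz p hp)).of_iso (asIso (B.bc p G)).symm
  · haveI : IsIso (B.bc 0 G) := CohCmpLib.isIso_bc_of_compatAt E H E' B 0 fun z => hc 0 _
    exact CohCmpLib.isIso_bc0_of_bc B G

variable [IsNoetherian X] [IsNoetherian Y] [IsNoetherian X'] [IsNoetherian Y'] [ConnectedSpace X] [ConnectedSpace Y]
  [HasInjectiveResolutions X.Modules] [HasInjectiveResolutions X'.Modules] {F : X.Modules}
  {KX : Type v} [CommRing KX] [LambdaOps KX] {PX : PosStructure KX} {φX : SGA6.Kvb X →+ KX}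
  {KY : Type w} [CommRing KY] [LambdaOps KY] {PY : PosStructure KY} {φY : SGA6.Kvb Y →+ KY}
  {KX' : Type v'} [CommRing KX'] [LambdaOps KX'] {PX' : PosStructure KX'} {φX' : SGA6.Kvb X' →+ KX'}
  {KY' : Type w'} [CommRing KY'] [LambdaOps KY'] {PY' : PosStructure KY'} {φY' : SGA6.Kvb Y' →+ KY'}
  {g : KX →+ KY} {g' : KX' →+ KY'}

/-- **Base change.** -/
theorem Setting.baseChange (hs : Setting π F) (H : IsPullback q₁ q₂ π h)
    (hX : KRR.IsModel X KX PX φX) (hX' : KRR.IsModel X' KX' PX' φX') (hY' : KRR.IsModel Y' KY' PY' φY')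
    (hg : KDet.IsPushF π F φX φY g)
    {pX : KX →+ KX'} (hpX : KRR.IsPull q₁ φX φX' pX) {pY : KY →+ KY'} (hpY : KRR.IsPull h φY φY' pY)
    {pQ : KY' →+ KX'} (hpQ : KRR.IsPull q₂ φY' φX' pQ)
    (hg' : KDet.IsPushF q₂ ((Scheme.Modules.pullback q₁).obj F) φX' φY' g') (x : KX) (y' : KY') :
    g' (pX x * pQ y') = pY (g x) * y' := by
  haveI := hs.proper
  haveI : IsProper q₂ := MorphismProperty.of_isPullback H inferInstance
  haveI : LocallyOfFinitePresentation π := inferInstance
  refine KRRRegLib.model_induction hY' (motive := fun y => g' (pX x * pQ y) = pY (g x) * y) (fun N hN => ?_) (by simp)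
    (fun a b ha hb => by simp only [map_add, mul_add, ha, hb])
    (fun a ha => by simp only [map_neg, mul_neg, ha]) y'
  have key : g'.comp ((AddMonoidHom.mulRight (pQ (φY' (KRR.cl Y' N)))).comp pX) =
      ((AddMonoidHom.mulRight (φY' (KRR.cl Y' N))).comp pY).comp g := by
    refine Setting.hom_ext hX hs fun E hE ha => ?_
    show g' (pX (φX (KRR.cl X E)) * pQ (φY' (KRR.cl Y' N))) = pY (g (φX (KRR.cl X E))) * φY' (KRR.cl Y' N)
    let G := CohB1.tensorMod F E
    have hG : Coh.IsCoh G := LocFreeCorepLib.isCoh_tens hs.coh (VBResLib.isCoh_of_vb hE)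
    haveI := hG.1
    obtain ⟨hz', hiso⟩ := bc_acyclic (QCohLib.isFP_of_isCoh G hG)
      (LocFreeCorepLib.isFlatOver_tensor_locFree π hs.coh hs.flat hE) H ha
    haveI := hiso
    have hvE := KFlatLib.isFinLocFree_pull q₁ hE
    have hvN := KFlatLib.isFinLocFree_pull q₂ hN
    let E'' := CohB1.tensorMod ((Scheme.Modules.pullback q₁).obj E) ((Scheme.Modules.pullback q₂).obj N)
    have hcl : cl (CohB1.tensorMod ((Scheme.Modules.pullback q₁).obj F) E'') =
        pull q₂ (cl N) * cl ((Scheme.Modules.pullback q₁).obj G) := by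
      rw [cl_tensor, cl_tensor, ← pull_cl, ← pull_cl, ← pull_cl, ← pull_cl q₁ G,
        show cl G = cl F * cl E from cl_tensor F E, map_mul]
      ac_rfl
    have hpush : FlatMod.IsFinLocFree ((Coh.push π).obj (((DCoh.tensorBi (X := X)).obj F).obj E)) := hs.vb_push hE ha
    obtain ⟨e'⟩ := cl_eq_iff.1 (show cl (CohB1.tensorMod ((Scheme.Modules.pullback q₁).obj F) E'') =
      cl (CohB1.tensorMod ((Scheme.Modules.pullback q₂).obj N) ((Scheme.Modules.pullback q₁).obj G)) by
        rw [hcl, cl_tensor, pull_cl])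
    obtain ⟨e⟩ := ProjFormLib.nonempty_projection_formula q₂ N hN ((Scheme.Modules.pullback q₁).obj G) 0
    have i1 := (Coh.push q₂).mapIso e'
    have i2 := (CohBCLib.rpushZero q₂
      (CohB1.tensorMod ((Scheme.Modules.pullback q₂).obj N) ((Scheme.Modules.pullback q₁).obj G))).symm
    have i3 : (Coh.Rpush q₂ 0).obj
        (CohB1.tensorMod ((Scheme.Modules.pullback q₂).obj N) ((Scheme.Modules.pullback q₁).obj G)) ≅
        CohB1.tensorMod N ((Coh.Rpush q₂ 0).obj ((Scheme.Modules.pullback q₁).obj G)) := e.symm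
    have i4 := HilbPolyLib.congrRight N (CohBCLib.rpushZero q₂ ((Scheme.Modules.pullback q₁).obj G))
    have i5 : CohB1.tensorMod N ((Coh.push q₂).obj ((Scheme.Modules.pullback q₁).obj G)) ≅
        CohB1.tensorMod N ((Scheme.Modules.pullback h).obj ((Coh.push π).obj G)) :=
      HilbPolyLib.congrRight N (asIso (CohBC.bc0 π h q₂ q₁ H.w G)).symm
    have i := i1 ≪≫ i2 ≪≫ i3 ≪≫ i4 ≪≫ i5
    have hvP := KFlatLib.isFinLocFree_pull h hpush
    rw [hpX E hE, hpQ N hN, map_tens hX' hvE hvN (C := E'') (cl_tensor _ _).symm,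
      hg' E'' (vb_tens hvE hvN) (acyc_of_pull_tensor hN hz' hcl) (vb_iso i.symm (vb_tens hN hvP)),
      hg E hE ha hpush, hpY _ hpush, mul_comm]
    exact (congrArg φY' (clSub_congr (KRR.vbP Y') i)).trans (hY'.map_mul N _ hN hvP).symm
  exact DFunLike.congr_fun key x

end IntShAcyc

end
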