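import Groth.Agent.IntShAcycLib.Gen
import Groth.Agent.S4357
import Groth.Agent.DevissLib.Stalk
import Groth.Agent.CohCmpLib.FibreRowsBC
import Groth.Agent.CurvLib.SupportVanish
import Groth.Agent.CohGenLib.Twist
import Groth.Agent.CycTopLib.Bundle
import Groth.Agent.ChernOpLib.Dual
import Groth.Agent.ProjKLib.CohK
import Groth.Agent.AcycResLib.Acyclic
import Groth.Agent.QCohLib.Coherent
import Groth.Agent.CohCmpLib.HomFrame

/-!
# Coresolutions by acyclic bundles
-/

set_option autoImplicit false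
set_option linter.style.haveILetI false
set_option linter.unusedSectionVars false
set_option backward.isDefEq.respectTransparency false
set_option backward.isDefEq.respectTransparency.types false
set_option maxHeartbeats 1000000

universe u

open CategoryTheory CategoryTheory.Limits AlgebraicGeometry TopologicalSpace Opposite
open CubeConsLib
open ChernOpLib (du)
open scoped ZeroObject
attribute [local instance] HasDerivedCategory.standard

noncomputable section

namespace IntShAcyc

open Groth.Agent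

/-- Splicing short exact sequences into an acyclic cochain complex. -/
theorem exists_splice {C : Type*} [Category C] [Abelian C] (Q A : ℕ → C) (ι : ∀ i, Q i ⟶ A i)
    (g : ∀ i, A i ⟶ Q (i + 1)) (w : ∀ i, ι i ≫ g i = 0) (h : ∀ i, (ShortComplex.mk (ι i) (g i) (w i)).ShortExact) :
    ∃ (L : CochainComplex C ℕ) (_ : L.X 0 ≅ Q 0), L.Acyclic ∧ ∀ i, Nonempty (L.X (i + 1) ≅ A i) := by
  let T : ℕ → C
    | 0 => Q 0
    | i + 1 => A i
  let dd : ∀ n, T n ⟶ T (n + 1)
    | 0 => ι 0
    | i + 1 => g i ≫ ι (i + 1)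
  have hsq : ∀ n, dd n ≫ dd (n + 1) = 0
    | 0 => by show ι 0 ≫ g 0 ≫ ι 1 = 0; rw [← Category.assoc, w, zero_comp]
    | i + 1 => by
      show (g i ≫ ι (i + 1)) ≫ g (i + 1) ≫ ι (i + 2) = 0
      rw [Category.assoc, ← Category.assoc (ι (i + 1)), w, zero_comp, comp_zero]
  let L : CochainComplex C ℕ := CochainComplex.of T dd hsq
  have hd : ∀ i, L.d i (i + 1) = dd i := fun i => by simp [L]
  refine ⟨L, Iso.refl _, fun j => ?_, fun i => ⟨Iso.refl _⟩⟩
  have hm : ∀ i, Mono (ι i) := fun i => (h i).mono_f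
  have he : ∀ i, Epi (g i) := fun i => (h i).epi_g
  have hgi : ∀ i, (ShortComplex.mk (ι i) (g i ≫ ι (i + 1))
      (by rw [← Category.assoc, w, zero_comp])).Exact := fun i => by
    let φ : ShortComplex.mk (ι i) (g i) (w i) ⟶
        ShortComplex.mk (ι i) (g i ≫ ι (i + 1)) (by rw [← Category.assoc, w, zero_comp]) :=
      { τ₁ := 𝟙 _, τ₂ := 𝟙 _, τ₃ := ι (i + 1) }
    haveI : Epi φ.τ₁ := inferInstanceAs (Epi (𝟙 _))
    haveI : IsIso φ.τ₂ := inferInstanceAs (IsIso (𝟙 _))
    haveI : Mono φ.τ₃ := hm _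
    exact (ShortComplex.exact_iff_of_epi_of_isIso_of_mono φ).1 (h i).exact
  rcases j with _ | _ | i
  · rw [HomologicalComplex.exactAt_iff' L 0 0 1 (by simp) (by simp),
      ShortComplex.exact_iff_mono _ (L.shape 0 0 (by simp))]
    show Mono (L.d 0 1)
    rw [hd 0]
    exact hm 0
  · rw [HomologicalComplex.exactAt_iff' L 0 1 2 (by simp) (by simp)]
    refine (ShortComplex.exact_iff_of_iso ?_).1 (hgi 0)
    exact ShortComplex.isoMk (Iso.refl _) (Iso.refl _) (Iso.refl _) (by simp [hd 0]; rfl) (by simp [hd 1]; rfl)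
  · rw [HomologicalComplex.exactAt_iff' L (i + 1) (i + 2) (i + 3) (by simp) (by simp)]
    have hz : (g i ≫ ι (i + 1)) ≫ g (i + 1) ≫ ι (i + 2) = 0 := hsq (i + 1)
    let φ : ShortComplex.mk (g i ≫ ι (i + 1)) (g (i + 1) ≫ ι (i + 2)) hz ⟶
        ShortComplex.mk (ι (i + 1)) (g (i + 1) ≫ ι (i + 2)) (by rw [← Category.assoc, w, zero_comp]) :=
      { τ₁ := g i, τ₂ := 𝟙 _, τ₃ := 𝟙 _ }
    haveI : Epi φ.τ₁ := he i
    haveI : IsIso φ.τ₂ := inferInstanceAs (IsIso (𝟙 _))
    haveI : Mono φ.τ₃ := inferInstanceAs (Mono (𝟙 _))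
    refine (ShortComplex.exact_iff_of_iso ?_).1 ((ShortComplex.exact_iff_of_epi_of_isIso_of_mono φ).2 (hgi (i + 1)))
    exact ShortComplex.isoMk (Iso.refl _) (Iso.refl _) (Iso.refl _) (by simp [hd (i + 1)]; rfl) (by simp [hd (i + 2)]; rfl)

variable {X Y : Scheme.{u}} [IsNoetherian X] [IsNoetherian Y] [HasInjectiveResolutions X.Modules]
  {π : X ⟶ Y} {F : X.Modules}

/-- No higher direct images above the dimension of the fibres of the support. -/
theorem Setting.isZero_rpush_above (hs : Setting π F) {d : ℕ}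
    (hd : ∀ y : Y, topologicalKrullDim ↥{x : X | x ∈ CohB1.support F ∧ π.base x = y} ≤ d)
    {V : X.Modules} (hV : FlatMod.IsFinLocFree V) (p : ℕ) (hp : d < p) :
    IsZero ((Coh.Rpush π p).obj (CohB1.tensorMod F V)) := by
  haveI := hs.proper
  haveI : LocallyOfFinitePresentation π := inferInstance
  have hc := LocFreeCorepLib.isCoh_tens hs.coh (VBResLib.isCoh_of_vb hV)
  haveI := hc.1
  refine CohCmpLib.isZero_rpush_of_fibre (QCohLib.isFP_of_isCoh _ hc)
    (LocFreeCorepLib.isFlatOver_tensor_locFree π hs.coh hs.flat hV) p fun s => ?_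
  let j := π.fiberι s
  haveI : IsProper (π.fiberToSpecResidueField s) :=
    MorphismProperty.of_isPullback (IsPullback.of_hasPullback π (Y.fromSpecResidueField s)) hs.proper
  haveI : IsLocallyNoetherian (π.fiber s) := LocallyOfFiniteType.isLocallyNoetherian (π.fiberToSpecResidueField s)
  haveI : CompactSpace ↥(π.fiber s) :=
    QuasiCompact.compactSpace_of_compactSpace (π.fiberToSpecResidueField s)
  haveI : AlgebraicGeometry.IsNoetherian (π.fiber s) := ⟨⟩
  let T : Set ↥(π.fiber s) := j ⁻¹' CohB1.support F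
  have hT : IsClosed T := (QCohLib.isClosed_support F hs.coh.2).preimage j.continuous
  have hsT : CohB1.support ((Scheme.Modules.pullback j).obj (CohB1.tensorMod F V)) ⊆ T := by
    obtain ⟨e'⟩ := cl_eq_iff.1 (show cl (CohB1.tensorMod V F) = cl (CohB1.tensorMod F V) by
      rw [cl_tensor, cl_tensor, mul_comm])
    rw [S4357.result j (CohB1.tensorMod F V) hc.2, ← DevissLib.support_iso e']
    exact Set.preimage_mono (CohGenLib.support_tensor_subset V F)
  have hdim : topologicalKrullDim T ≤ d := by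
    have hπ : ∀ z : ↥(π.fiber s), π.base (j z) = s := fun z => by
      have h0 : j z ∈ Set.range ⇑(π.fiberι s) := ⟨z, rfl⟩
      rw [π.range_fiberι s] at h0
      exact h0
    let f : T → ↥{x : X | x ∈ CohB1.support F ∧ π.base x = s} := fun z => ⟨j z.1, z.2, hπ _⟩
    have hf : Topology.IsInducing f := by
      refine Topology.IsInducing.of_comp (g := Subtype.val) ?_ continuous_subtype_val ?_
      · exact (j.continuous.comp continuous_subtype_val).subtype_mk _
      · exact j.isEmbedding.isInducing.comp Topology.IsInducing.subtypeVal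
    exact hf.topologicalKrullDim_le.trans (hd s)
  exact CurvLib.subsingleton_HH_of_support _ hT hsT hdim p hp

/-- One step of a coresolution. -/
theorem Setting.exists_step (hs : Setting π F) {V : X.Modules} (hV : FlatMod.IsFinLocFree V) :
    ∃ (A Q : X.Modules) (ι : V ⟶ A) (g : A ⟶ Q) (w : ι ≫ g = 0), (ShortComplex.mk ι g w).ShortExact ∧
      FlatMod.IsFinLocFree A ∧ FlatMod.IsFinLocFree Q ∧ Acyc π F A := by
  obtain ⟨G, M, q, hG, hM, hq, hv⟩ := hs.exists_twist hV
  haveI := hq
  have hGv := KFlatLib.isFinLocFree_pull π hG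
  have hMv := vb_inv hM
  have hKv := ResPropLib.isFinLocFree_kernel q hGv hMv
  let T : ShortComplex X.Modules := ShortComplex.mk (kernel.ι q) q (kernel.condition q)
  have hT : T.ShortExact := ShortComplex.ShortExact.mk (ShortComplex.exact_kernel q)
  obtain ⟨w, hdu⟩ := ChernOpLib.shortExact_du hT (r := 1) ((CohCmpLib.invertible_iff_rank_one _).1 hM) hKv hGv hMv
  have hS := ProjFormLib.shortExact_tens hV (ProjFormLib.shortExact_tens hMv hdu)
  obtain ⟨hdi, hev⟩ := ChernOpLib.exists_du_inv hM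
  haveI := hev
  obtain ⟨e⟩ := cl_eq_iff.1 (show cl V = cl (CohB1.tensorMod V (CohB1.tensorMod M (du M))) by
    have h1 : cl (CohB1.tensorMod M (du M)) = 1 :=
      cl_eq_one_iff.2 ⟨@asIso _ _ _ _ (CohCmpLib.evMod M (Coh.structureModule X)) hev⟩
    rw [cl_tensor V, h1, mul_one])
  obtain ⟨eG⟩ := CycTopLib.nonempty_pb_du π hG
  have hdG : FlatMod.IsFinLocFree (du G) :=
    CohCmpLib.isFinLocFree_homMod hG (KRRRegLib.vb_structure Y)
  have hdK : FlatMod.IsFinLocFree (du (kernel q)) :=
    CohCmpLib.isFinLocFree_homMod hKv (KRRRegLib.vb_structure X)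
  have hdP : FlatMod.IsFinLocFree (du ((Scheme.Modules.pullback π).obj G)) :=
    CohCmpLib.isFinLocFree_homMod hGv (KRRRegLib.vb_structure X)
  let S0 := (((ShortComplex.mk _ _ w).map (ProjFormLib.tF M))).map (ProjFormLib.tF V)
  refine ⟨S0.X₂, S0.X₃, e.hom ≫ S0.f, S0.g, (Category.assoc _ _ _).trans ((congrArg (e.hom ≫ ·) S0.zero).trans comp_zero),
    ShortComplex.shortExact_of_iso ?_ hS, vb_tens hV (vb_tens hMv hdP), vb_tens hV (vb_tens hMv hdK),
    acyc_of_pull_tensor hdG (hv 0) ?_⟩
  · exact ShortComplex.isoMk e.symm (Iso.refl _) (Iso.refl _) (by simp; rfl) (by simp; rfl)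
  · show cl (CohB1.tensorMod F (CohB1.tensorMod V (CohB1.tensorMod M (du ((Scheme.Modules.pullback π).obj G))))) = _
    rw [cl_tensor, cl_tensor, cl_tensor, cl_tensor, cl_tensor, cl_tensorPow, zero_add, pow_one,
      cl_eq_iff.2 ⟨eG⟩, pull_cl]
    exact (by ac_rfl : cl F * (cl V * (cl M * cl ((Scheme.Modules.pullback π).obj (du G)))) =
      cl ((Scheme.Modules.pullback π).obj (du G)) * (cl F * cl V * cl M))

theorem isZero_of_phiSingle {M : X.Modules} {p : ℕ} (π : X ⟶ Y)
    [PreservesFiniteLimits (Scheme.Modules.pushforward π)] [EnoughInjectives X.Modules]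
    (h : IsZero ((SpSeqLib.phiSingle (Scheme.Modules.pushforward π) p).obj M)) : IsZero ((Coh.Rpush π p).obj M) :=
  h.of_iso (SpSeqLib.nonempty_phiSingle_iso (Scheme.Modules.pushforward π) M p).some.symm

theorem phiSingle_of_isZero {M : X.Modules} {p : ℕ} (π : X ⟶ Y)
    [PreservesFiniteLimits (Scheme.Modules.pushforward π)] [EnoughInjectives X.Modules]
    (h : IsZero ((Coh.Rpush π p).obj M)) : IsZero ((SpSeqLib.phiSingle (Scheme.Modules.pushforward π) p).obj M) :=
  h.of_iso (SpSeqLib.nonempty_phiSingle_iso (Scheme.Modules.pushforward π) M p).some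

/-- **Coresolutions of length the fibre dimension.** -/
theorem Setting.exists_coresolution (hs : Setting π F) {d : ℕ}
    (hd : ∀ y : Y, topologicalKrullDim ↥{x : X | x ∈ CohB1.support F ∧ π.base x = y} ≤ d)
    {E : X.Modules} (hE : FlatMod.IsFinLocFree E) :
    ∃ (C : CochainComplex X.Modules ℕ) (_ : C.X 0 ≅ E), C.Acyclic ∧ (∀ i, d + 1 < i → IsZero (C.X i)) ∧
      (∀ i, FlatMod.IsFinLocFree (C.X i)) ∧ ∀ i, 1 ≤ i → ∀ p, 0 < p →
        IsZero ((Coh.Rpush π p).obj (((DCoh.tensorBi (X := X)).obj F).obj (C.X i))) := by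
  classical
  choose fA fQ fι fg fw fex hA hQ hac using fun V : {V : X.Modules // FlatMod.IsFinLocFree V} => hs.exists_step V.2
  let R : ℕ → {V : X.Modules // FlatMod.IsFinLocFree V} := fun i => i.rec ⟨E, hE⟩ fun _ V => ⟨fQ V, hQ V⟩
  haveI : PreservesFiniteLimits (Scheme.Modules.pushforward π) :=
    haveI : PreservesLimitsOfSize.{0, 0} (Scheme.Modules.pushforward π) :=
      (Scheme.Modules.pullbackPushforwardAdjunction π).rightAdjoint_preservesLimits
    PreservesLimitsOfSize.preservesFiniteLimits _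
  haveI : EnoughInjectives X.Modules := inferInstance
  have hdeg : ∀ i p, 0 < p → d < p + i → IsZero ((Coh.Rpush π p).obj (CohB1.tensorMod F (R i).1)) := by
    intro i
    induction i with
    | zero => exact fun p _ hp => hs.isZero_rpush_above hd (R 0).2 p (by omega)
    | succ i ih =>
      intro p hp hip
      have hS := ProjKLib.shortExact_tensor_right (fex (R i)) (hQ (R i)) F
      have eswap : ∀ A : X.Modules, Nonempty (CohB1.tensorMod F A ≅ CohB1.tensorMod A F) := fun A =>
        cl_eq_iff.1 (by rw [cl_tensor, cl_tensor, mul_comm])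
      have h2 : IsZero ((Coh.Rpush π p).obj (CohB1.tensorMod (fA (R i)) F)) :=
        (hac (R i) p hp).of_iso ((Coh.Rpush π p).mapIso (eswap (fA (R i))).some.symm)
      have h1 : IsZero ((Coh.Rpush π (p + 1)).obj (CohB1.tensorMod (R i).1 F)) :=
        (ih (p + 1) (by omega) (by omega)).of_iso ((Coh.Rpush π (p + 1)).mapIso (eswap (R i).1).some.symm)
      exact (isZero_of_phiSingle π (AcycResLib.isZero_of_shortExact₃ (Scheme.Modules.pushforward π) hS p
        (phiSingle_of_isZero π h2) (phiSingle_of_isZero π h1))).of_iso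
          ((Coh.Rpush π p).mapIso (eswap (R (i + 1)).1).some)
  let Q : ℕ → X.Modules := fun i => if i ≤ d then (R i).1 else 0
  let A : ℕ → X.Modules := fun i => if i < d then fA (R i) else Q i
  have hstep : ∀ i, ∃ (ι : Q i ⟶ A i) (g : A i ⟶ Q (i + 1)) (w : ι ≫ g = 0), (ShortComplex.mk ι g w).ShortExact := by
    intro i
    rcases Nat.lt_or_ge i d with h | h
    · rw [show Q i = (R i).1 from if_pos h.le, show Q (i + 1) = fQ (R i) from if_pos h,
        show A i = fA (R i) from if_pos h]
      exact ⟨_, _, fw (R i), fex (R i)⟩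
    · rw [show A i = Q i from if_neg (by omega), show Q (i + 1) = 0 from if_neg (by omega)]
      refine ⟨𝟙 _, 0, comp_zero, ?_⟩
      haveI : Mono (ShortComplex.mk (𝟙 (Q i)) (0 : Q i ⟶ 0) comp_zero).f := inferInstanceAs (Mono (𝟙 _))
      haveI : Epi (ShortComplex.mk (𝟙 (Q i)) (0 : Q i ⟶ 0) comp_zero).g :=
        IsZero.epi (isZero_zero _) _
      exact ShortComplex.ShortExact.mk ((ShortComplex.exact_iff_epi _ rfl).2 (inferInstanceAs (Epi (𝟙 _))))
  choose ι g w hex using hstep
  obtain ⟨L, e, hL, hLi⟩ := exists_splice Q A ι g w hex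
  have hQvb : ∀ i, FlatMod.IsFinLocFree (Q i) := fun i => by
    show FlatMod.IsFinLocFree (if i ≤ d then (R i).1 else 0)
    split
    · exact (R i).2
    · exact VBResLib.vb_of_isZero (isZero_zero _)
  have hAvb : ∀ i, FlatMod.IsFinLocFree (A i) := fun i => by
    show FlatMod.IsFinLocFree (if i < d then fA (R i) else Q i)
    split
    · exact hA _
    · exact hQvb i
  refine ⟨L, e ≪≫ eqToIso (if_pos (Nat.zero_le d)), hL, fun i hi => ?_, fun i => ?_, fun i hi p hp => ?_⟩
  · obtain ⟨k, rfl⟩ : ∃ k, i = k + 1 := ⟨i - 1, by omega⟩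
    refine IsZero.of_iso ?_ (hLi k).some
    rw [show A k = Q k from if_neg (by omega), show Q k = 0 from if_neg (by omega)]
    exact isZero_zero _
  · rcases i with _ | i
    · exact vb_iso e.symm (hQvb 0)
    · exact vb_iso (hLi i).some.symm (hAvb i)
  · obtain ⟨k, rfl⟩ : ∃ k, i = k + 1 := ⟨i - 1, by omega⟩
    refine IsZero.of_iso ?_ ((Coh.Rpush π p).mapIso (((DCoh.tensorBi (X := X)).obj F).mapIso (hLi k).some))
    rcases Nat.lt_or_ge k d with h | h
    · rw [show A k = fA (R k) from if_pos h]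
      exact hac (R k) p hp
    · rw [show A k = Q k from if_neg (by omega)]
      rcases eq_or_lt_of_le h with h'' | h'
      · rw [show Q k = (R k).1 from if_pos h''.ge]
        exact hdeg k p hp (by omega)
      · rw [show Q k = 0 from if_neg (by omega)]
        exact Functor.map_isZero _ (Functor.map_isZero _ (isZero_zero _))

end IntShAcyc

end
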