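import Groth.Agent.IntShAcycLib.BC

/-!
# Determinants commute with pull-back
-/

set_option autoImplicit false
set_option linter.style.haveILetI false
set_option linter.unusedSectionVars false
set_option backward.isDefEq.respectTransparency false
set_option backward.isDefEq.respectTransparency.types false
set_option maxHeartbeats 1000000

universe u v v'

open CategoryTheory CategoryTheory.Limits AlgebraicGeometry TopologicalSpace Opposite
open LambdaRing CubeConsLib

noncomputable section

namespace IntShAcyc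

open Groth.Agent

variable {Y Y' : Scheme.{u}} [IsNoetherian Y] [IsNoetherian Y'] [ConnectedSpace Y]
  {KY : Type v} [CommRing KY] [LambdaOps KY] {PY : PosStructure KY} {φY : SGA6.Kvb Y →+ KY}
  {KY' : Type v'} [CommRing KY'] [LambdaOps KY'] {φY' : SGA6.Kvb Y' →+ KY'}

theorem det_pull [PicGrp.Law Y] [PicGrp.Law Y'] {h : Y' ⟶ Y} (hmul : PicGrp.PullMul h)
    (hY : KRR.IsModel Y KY PY φY) {dt : KY →+ Additive (PicLoc.PicSet Y)} (hdt : KDet.IsDet φY dt)
    {dt' : KY' →+ Additive (PicLoc.PicSet Y')} (hdt' : KDet.IsDet φY' dt')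
    {pY : KY →+ KY'} (hpY : KRR.IsPull h φY φY' pY) (y : KY) :
    PicGrp.pullHom h hmul (Additive.toMul (dt y)) = Additive.toMul (dt' (pY y)) := by
  refine KRRRegLib.model_induction hY
    (motive := fun y => PicGrp.pullHom h hmul (Additive.toMul (dt y)) = Additive.toMul (dt' (pY y)))
    (fun N hN => ?_) (by simp) (fun a b ha hb => by simp only [map_add, toMul_add, map_mul, ha, hb])
    (fun a ha => by simp only [map_neg, toMul_neg, map_inv, ha]) y
  obtain ⟨n, hn⟩ := exists_rank hN
  obtain ⟨D, hD, hDx⟩ := ExtPowLib.exists_isExtPow_vb hN n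
  have hDi : PicF.IsInvertible D :=
    (CohCmpLib.invertible_iff_rank_one _).2 (by simpa using GrassSch.rank_extPow hn hDx)
  haveI : Coh.IsQCoh N := (VBResLib.isCoh_of_vb hN).1
  rw [hpY N hN, hdt n N D hDi hn hDx, hdt' n _ _ (AmpleDevLib.isInvertible_pb h hDi)
    (SeesawLib.isFinLocFreeOfRank_pullback h hn) (ExtPowLib.isExtPow_pullback h hDx)]
  exact Subtype.ext rfl

end IntShAcyc

end
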