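import Groth.Agent.LinSysLib.AmpleBase
import Groth.Agent.SerreVanLib.Rpush
import Groth.Agent.KRRRegLib.Push
import Groth.Agent.KRRRegLib.Model
import Groth.Agent.KRRRegLib.PushK
import Groth.Agent.ProjFormLib.Proj
import Groth.Agent.RpushLib.Finite
import Groth.Agent.RpushLib.Comp
import Groth.Agent.CubeConsLib.IsoCls
import Groth.Agent.ProjKLib.Special
import Groth.Agent.LocFreeCorepLib.Main
import Groth.Agent.ExtPowLib.Pullback
import Groth.Agent.GrassLib.SchExtPow
import Groth.Agent.S4474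
import Groth.Agent.S0036
import Groth.Agent.S1108
import Groth.Prelude.Def_KDet

/-!
# Acyclic bundles generate the K-group of a projective morphism
-/

set_option autoImplicit false
set_option linter.style.haveILetI false
set_option linter.unusedSectionVars false
set_option backward.isDefEq.respectTransparency false
set_option backward.isDefEq.respectTransparency.types false
set_option maxHeartbeats 1000000

universe u v w

open CategoryTheory CategoryTheory.Limits AlgebraicGeometry TopologicalSpace Opposite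
open LambdaRing CubeConsLib
open Groth.Agent.KHeartLib (clSub_add clSub_congr)

noncomputable section

namespace IntShAcyc

open Groth.Agent

variable {X Y : Scheme.{u}}

/-- A finite locally free module on a connected scheme has constant rank. -/
theorem exists_rank [ConnectedSpace X] {E : X.Modules} (hE : FlatMod.IsFinLocFree E) :
    ∃ n, FlatMod.IsFinLocFreeOfRank n E := by
  obtain ⟨x₀⟩ : Nonempty X := inferInstance
  obtain ⟨n, hn⟩ := SeesawLib.exists_mem_rankSet hE x₀
  have hc : IsClosed (SeesawLib.RankSet E n) := by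
    rw [← isOpen_compl_iff, isOpen_iff_forall_mem_open]
    intro x hx
    obtain ⟨m, hm⟩ := SeesawLib.exists_mem_rankSet hE x
    exact ⟨_, fun y hy hy' => hx (SeesawLib.rankSet_unique hy hy' ▸ hm), SeesawLib.isOpen_rankSet E m, hm⟩
  have h := IsClopen.eq_univ ⟨hc, SeesawLib.isOpen_rankSet E n⟩ ⟨x₀, hn⟩
  exact ⟨n, ProjKLib.rank_of_rankSet fun x => h ▸ Set.mem_univ x⟩

theorem vb_iso {A B : X.Modules} (e : A ≅ B) (h : FlatMod.IsFinLocFree A) : FlatMod.IsFinLocFree B :=
  PerfLib.isFinLocFree_of_iso e h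

instance vbP_closed : (KRR.vbP X).IsClosedUnderIsomorphisms := ⟨fun e h => PerfLib.isFinLocFree_of_iso e h⟩

theorem vb_inv {L : X.Modules} (hL : PicF.IsInvertible L) : FlatMod.IsFinLocFree L :=
  AmpleDevLib.isFinLocFree_of_isInvertible hL

theorem vb_tens [IsLocallyNoetherian X] {A B : X.Modules} (hA : FlatMod.IsFinLocFree A) (hB : FlatMod.IsFinLocFree B) :
    FlatMod.IsFinLocFree (CohB1.tensorMod A B) :=
  VBResLib.vb_tensor B hA hB

theorem cl_tensorPow (L : X.Modules) : ∀ m : ℕ, cl (CohB1.tensorPow L m) = cl L ^ m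
  | 0 => (pow_zero _).symm
  | m + 1 => by rw [pow_succ, ← cl_tensorPow L m]; rfl

variable [HasInjectiveResolutions X.Modules] (π : X ⟶ Y) (F : X.Modules)

/-- No higher direct images after twisting by `F`. -/
def Acyc (E : X.Modules) : Prop :=
  ∀ p : ℕ, 0 < p → IsZero ((Coh.Rpush π p).obj (((DCoh.tensorBi (X := X)).obj F).obj E))

variable {π F}

/-- Acyclicity after tensoring with bundles from the base. -/
theorem acyc_of_pull_tensor {N : Y.Modules} (hN : FlatMod.IsFinLocFree N) {G E' : X.Modules}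
    (hG : ∀ p : ℕ, 0 < p → IsZero ((Coh.Rpush π p).obj G))
    (h : cl (CohB1.tensorMod F E') = pull π (cl N) * cl G) : Acyc π F E' := by
  intro p hp
  obtain ⟨e⟩ := ProjFormLib.nonempty_projection_formula π N hN G p
  obtain ⟨e'⟩ := cl_eq_iff.1 (show cl (CohB1.tensorMod F E') =
    cl (CohB1.tensorMod ((Scheme.Modules.pullback π).obj N) G) from h)
  haveI : ((DCoh.tensorBi (X := Y)).obj N).PreservesZeroMorphisms := inferInstance
  exact ((Functor.map_isZero ((DCoh.tensorBi (X := Y)).obj N) (hG p hp)).of_iso e.symm).of_iso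
    ((Coh.Rpush π p).mapIso e')

variable (π F) in
/-- The hypotheses on the twisted push-forward. -/
structure Setting : Prop where
  proj : RelProj.IsProjective π
  coh : Coh.IsCoh F
  flat : FlatMod.IsFlatOver π F
  alt : Flat π ∨ ∃ H : Y.Modules, CohB1.IsAmple H

theorem Setting.proper (hs : Setting π F) : IsProper π :=
  (MiscFlat6.isQuasiProjective_of_isProjective hs.proj).2

theorem isZero_Rpush_of_ab [IsProper π] {M : X.Modules} [Coh.IsQCoh M] {p : ℕ}
    (h : IsZero ((Coh.RpushAb π p).obj (Coh.toAb M))) : IsZero ((Coh.Rpush π p).obj M) := by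
  obtain ⟨e⟩ := RpushLib.nonempty_toAb_rpush_iso π M p
  exact RpushLib.isZero_of_isZero_toAb (h.of_iso e)

theorem isZero_RpushAb [IsProper π] {M : X.Modules} [Coh.IsQCoh M] {p : ℕ}
    (h : IsZero ((Coh.Rpush π p).obj M)) : IsZero ((Coh.RpushAb π p).obj (Coh.toAb M)) := by
  obtain ⟨e⟩ := RpushLib.nonempty_toAb_rpush_iso π M p
  exact (Functor.map_isZero (QCohLib.toAbF Y) h).of_iso e.symm

/-- The direct image of an acyclic twist is finite locally free. -/
theorem Setting.vb_push [IsNoetherian Y] [IsLocallyNoetherian X] (hs : Setting π F) {E : X.Modules}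
    (hE : FlatMod.IsFinLocFree E) (ha : Acyc π F E) :
    FlatMod.IsFinLocFree ((Coh.push π).obj (((DCoh.tensorBi (X := X)).obj F).obj E)) := by
  haveI := hs.proper
  have hc : Coh.IsCoh (CohB1.tensorMod F E) := LocFreeCorepLib.isCoh_tens hs.coh (VBResLib.isCoh_of_vb hE)
  haveI : Coh.IsQCoh (((DCoh.tensorBi (X := X)).obj F).obj E) := hc.1
  exact KRRRegLib.isFinLocFree_push π _ hc (LocFreeCorepLib.isFlatOver_tensor_locFree π hs.coh hs.flat hE)
    fun p hp => isZero_RpushAb (ha p hp)

/-- Twist data: an invertible quotient of a bundle from the base whose positive powers kill cohomology. -/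
theorem Setting.exists_twist [IsNoetherian X] [IsNoetherian Y] (hs : Setting π F) {E : X.Modules}
    (hE : FlatMod.IsFinLocFree E) :
    ∃ (G : Y.Modules) (M : X.Modules) (q : (Scheme.Modules.pullback π).obj G ⟶ M), FlatMod.IsFinLocFree G ∧
      PicF.IsInvertible M ∧ Epi q ∧ ∀ j : ℕ, ∀ p : ℕ, 0 < p →
        IsZero ((Coh.Rpush π p).obj (CohB1.tensorMod (CohB1.tensorMod F E) (CohB1.tensorPow M (j + 1)))) := by
  obtain ⟨⟨-, -, L, hL⟩, hp⟩ := MiscFlat6.isQuasiProjective_of_isProjective hs.proj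
  haveI := hp
  have hLi := MiscFlat6.invertible_of_relAmple hL
  have hO : Coh.IsCoh (Coh.structureModule X) := VBResLib.isCoh_of_vb (KRRRegLib.vb_structure X)
  have hFE : Coh.IsCoh (CohB1.tensorMod F E) := LocFreeCorepLib.isCoh_tens hs.coh (VBResLib.isCoh_of_vb hE)
  obtain ⟨n₀, h₀⟩ := SerreVanLib.exists_vanishing_rpush π L hLi (fun W hW => hL.2 ⟨W, hW⟩) _ hFE
  obtain ⟨n₁, h₁⟩ := SerreVanLib.exists_vanishing_rpush π L hLi (fun W hW => hL.2 ⟨W, hW⟩) _ hO
  obtain ⟨N, hN⟩ := S4474.result π L hLi hL (Coh.structureModule X) hO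
  let m := n₀ + n₁ + N + 1
  let M : X.Modules := CohB1.tensorMod (Coh.structureModule X) (CohB1.tensorPow L m)
  have hMi : PicF.IsInvertible M :=
    HilbPolyLib.isInvertible_tensor CurvLib.isInvertible_structureModule (AmpleThLib.tensorPow_isInvertible hLi m)
  have hMc : Coh.IsCoh M := VBResLib.isCoh_of_vb (vb_inv hMi)
  haveI := hMc.1
  haveI hqM : Epi ((Scheme.Modules.pullbackPushforwardAdjunction π).counit.app M) := hN m (by omega)
  obtain ⟨G, e, hG, he⟩ : ∃ (G : Y.Modules) (e : G ⟶ (Scheme.Modules.pushforward π).obj M),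
      FlatMod.IsFinLocFree G ∧ Epi e := by
    rcases hs.alt with hfl | ⟨H, hH⟩
    · haveI := hfl
      exact ⟨_, 𝟙 _, KRRRegLib.isFinLocFree_push π M hMc (KRRRegLib.isFlatOver_of_vb π (vb_inv hMi))
        (fun p hp => h₁ m (by omega) p hp), inferInstance⟩
    · haveI : IsLocallyNoetherian Y := inferInstance
      have hc : Coh.IsCoh ((Coh.push π).obj M) :=
        QCohLib.isCoh_of_iso (CohBCLib.rpushZero π M) (S0036.result π M hMc 0)
      obtain ⟨G, e, hG, he⟩ := S1108.result Y H hH _ hc.1 hc.2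
      exact ⟨G, e, hG, he⟩
  haveI := he
  haveI : Epi ((Scheme.Modules.pullback π).map e) := inferInstance
  refine ⟨G, M, (Scheme.Modules.pullback π).map e ≫ (Scheme.Modules.pullbackPushforwardAdjunction π).counit.app M,
    hG, hMi, epi_comp _ _, fun j p hp => ?_⟩
  have hq : Coh.IsCoh (CohB1.tensorMod (CohB1.tensorMod F E) (CohB1.tensorPow L (m * (j + 1)))) :=
    SerreVanLib.isCoh_tensor hFE (AmpleThLib.tensorPow_isInvertible hLi _)
  haveI := hq.1
  have hle : n₀ ≤ m * (j + 1) := le_trans (by omega : n₀ ≤ m) (Nat.le_mul_of_pos_right _ j.succ_pos)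
  obtain ⟨i⟩ := cl_eq_iff.1 (show cl (CohB1.tensorMod (CohB1.tensorMod F E) (CohB1.tensorPow M (j + 1))) =
      cl (CohB1.tensorMod (CohB1.tensorMod F E) (CohB1.tensorPow L (m * (j + 1)))) by
    rw [cl_tensor, cl_tensor _ (CohB1.tensorPow L _), cl_tensorPow, cl_tensorPow, cl_tensor (Coh.structureModule X),
      cl_tensorPow, cl_eq_one_iff.2 ⟨Iso.refl _⟩, one_mul, pow_mul])
  exact (isZero_Rpush_of_ab (h₀ _ hle p hp)).of_iso ((Coh.Rpush π p).mapIso i)

section Model

variable {KX : Type v} [CommRing KX] [LambdaOps KX] {PX : PosStructure KX} {φX : SGA6.Kvb X →+ KX}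

theorem cl_congr {A B : X.Modules} (h : cl A = cl B) : φX (KRR.cl X A) = φX (KRR.cl X B) := by
  obtain ⟨e⟩ := cl_eq_iff.1 h
  exact congrArg φX (clSub_congr (KRR.vbP X) e)

variable (hX : KRR.IsModel X KX PX φX)

include hX in
theorem map_tens {A B C : X.Modules} (hA : FlatMod.IsFinLocFree A) (hB : FlatMod.IsFinLocFree B)
    (h : cl A * cl B = cl C) : φX (KRR.cl X A) * φX (KRR.cl X B) = φX (KRR.cl X C) :=
  (hX.map_mul A B hA hB).trans (cl_congr h)

include hX in
/-- One is a combination of positive twists by bundles from the base. -/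
theorem one_mem [IsNoetherian X] [IsNoetherian Y] [ConnectedSpace X] [ConnectedSpace Y] {G : Y.Modules} {M : X.Modules}
    (hG : FlatMod.IsFinLocFree G) (hM : PicF.IsInvertible M) (q : (Scheme.Modules.pullback π).obj G ⟶ M) [Epi q] :
    (1 : KX) ∈ AddSubgroup.closure {z : KX | ∃ (N : Y.Modules) (j : ℕ), FlatMod.IsFinLocFree N ∧
      φX (KRR.cl X ((Scheme.Modules.pullback π).obj N)) * φX (KRR.cl X M) ^ (j + 1) = z} := by
  set S := {z : KX | ∃ (N : Y.Modules) (j : ℕ), FlatMod.IsFinLocFree N ∧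
      φX (KRR.cl X ((Scheme.Modules.pullback π).obj N)) * φX (KRR.cl X M) ^ (j + 1) = z}
  have hmulN : ∀ N₀ : Y.Modules, FlatMod.IsFinLocFree N₀ → ∀ t ∈ AddSubgroup.closure S,
      φX (KRR.cl X ((Scheme.Modules.pullback π).obj N₀)) * t ∈ AddSubgroup.closure S := by
    intro N₀ hN₀ t ht
    induction ht using AddSubgroup.closure_induction with
    | mem z hz =>
      obtain ⟨N, j, hN, rfl⟩ := hz
      refine AddSubgroup.subset_closure ⟨CohB1.tensorMod N₀ N, j, vb_tens hN₀ hN, ?_⟩
      rw [← mul_assoc, map_tens hX (KFlatLib.isFinLocFree_pull π hN₀) (KFlatLib.isFinLocFree_pull π hN)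
        (C := (Scheme.Modules.pullback π).obj (CohB1.tensorMod N₀ N))
        (by rw [← pull_cl, ← pull_cl, ← pull_cl, cl_tensor, map_mul])]
    | zero => rw [mul_zero]; exact zero_mem _
    | add a b _ _ ha hb => rw [mul_add]; exact add_mem ha hb
    | neg a _ ha => rw [mul_neg]; exact neg_mem ha
  have hmulM : ∀ t ∈ AddSubgroup.closure S, φX (KRR.cl X M) * t ∈ AddSubgroup.closure S := by
    intro t ht
    induction ht using AddSubgroup.closure_induction with
    | mem z hz =>
      obtain ⟨N, j, hN, rfl⟩ := hz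
      exact AddSubgroup.subset_closure ⟨N, j + 1, hN, by ring⟩
    | zero => rw [mul_zero]; exact zero_mem _
    | add a b _ _ ha hb => rw [mul_add]; exact add_mem ha hb
    | neg a _ ha => rw [mul_neg]; exact neg_mem ha
  have hGv := KFlatLib.isFinLocFree_pull π hG
  have hMr : FlatMod.IsFinLocFreeOfRank 1 M := (CohCmpLib.invertible_iff_rank_one _).1 hM
  have hKv := ResPropLib.isFinLocFree_kernel q hGv (vb_inv hM)
  obtain ⟨r, hr⟩ := exists_rank hG
  obtain ⟨c, hc⟩ := exists_rank hKv
  let T : ShortComplex X.Modules := ShortComplex.mk (kernel.ι q) q (kernel.condition q)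
  have hT : T.ShortExact := ShortComplex.ShortExact.mk (ShortComplex.exact_kernel q)
  obtain ⟨x₀⟩ : Nonempty X := inferInstance
  obtain rfl : r = c + 1 := NefCurveLib.rank_add hT hc (SeesawLib.isFinLocFreeOfRank_pullback π hr) hMr x₀
  set g := φX (KRR.cl X ((Scheme.Modules.pullback π).obj G))
  set k := φX (KRR.cl X (kernel q))
  set l := φX (KRR.cl X M)
  have hgkl : g = k + l := (congrArg φX (clSub_add (KRR.vbP X) T hT hKv hGv (vb_inv hM))).trans (map_add φX _ _)
  have hl : ∀ i, 2 ≤ i → LambdaOps.lam i l = 0 := fun i hi =>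
    PX.lam_eq_zero l ((hX.mem_pos_iff _).2 ⟨1, M, le_rfl, hMr, rfl⟩) i (by rw [hX.aug_cl 1 M hMr]; omega)
  have hstep : ∀ i, LambdaOps.lam (i + 1) g = LambdaOps.lam (i + 1) k + l * LambdaOps.lam i k := by
    intro i
    rw [hgkl, LambdaOps.lam_add, Finset.sum_range_succ, Finset.sum_range_succ, Finset.sum_eq_zero, zero_add,
      Nat.sub_self, LambdaOps.lam_zero, show i + 1 - i = 1 by omega, LambdaOps.lam_one, mul_one, mul_comm, add_comm]
    intro j hj
    rw [hl _ (by have := Finset.mem_range.1 hj; omega), mul_zero]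
  haveI : Coh.IsQCoh G := (VBResLib.isCoh_of_vb hG).1
  have hlamG : ∀ i, ∃ N : Y.Modules, FlatMod.IsFinLocFree N ∧ ExtPow.IsExtPow i G N ∧
      LambdaOps.lam i g = φX (KRR.cl X ((Scheme.Modules.pullback π).obj N)) := fun i => by
    obtain ⟨N, hN, hNx⟩ := ExtPowLib.exists_isExtPow_vb hG i
    exact ⟨N, hN, hNx, hX.map_lam i _ _ hGv (KFlatLib.isFinLocFree_pull π hN)
      (ExtPowLib.isExtPow_pullback π hNx)⟩
  have hlk : ∀ i, l * LambdaOps.lam i k ∈ AddSubgroup.closure S := by
    intro i
    induction i with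
    | zero =>
      refine AddSubgroup.subset_closure ⟨Coh.structureModule Y, 0, KRRRegLib.vb_structure Y, ?_⟩
      rw [LambdaOps.lam_zero, mul_one, zero_add, pow_one]
      refine (map_tens hX (KFlatLib.isFinLocFree_pull π (KRRRegLib.vb_structure Y)) (vb_inv hM) ?_).trans rfl
      rw [← pull_cl, show cl (Coh.structureModule Y) = 1 from rfl, map_one, one_mul]
    | succ i ih =>
      obtain ⟨N, hN, -, hNg⟩ := hlamG (i + 1)
      have e : l * LambdaOps.lam (i + 1) k =
          φX (KRR.cl X ((Scheme.Modules.pullback π).obj N)) * l - l * (l * LambdaOps.lam i k) := by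
        rw [← hNg, hstep i]; ring
      rw [e]
      exact sub_mem (AddSubgroup.subset_closure ⟨N, 0, hN, by rw [zero_add, pow_one]⟩) (hmulM _ ih)
  obtain ⟨D, hD, hDx, hDg⟩ := hlamG (c + 1)
  have htop : LambdaOps.lam (c + 1) k = 0 := by
    rcases Nat.eq_zero_or_pos c with rfl | hpos
    · obtain ⟨Λ, hΛ, hΛx⟩ := ExtPowLib.exists_isExtPow_vb hKv (0 + 1)
      rw [hX.map_lam _ _ _ hKv hΛ hΛx, ← map_zero φX]
      refine congrArg φX (Groth.Agent.KHeartLib.clSub_eq_zero (KRR.vbP X) hΛ ?_)
      have hr := GrassSch.rank_extPow hc hΛx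
      rw [Nat.choose_eq_zero_of_lt (by omega : 0 < 0 + 1)] at hr
      refine (KFlatLib.isZero_iff_forall_stalk _).2 fun x => ?_
      obtain ⟨e⟩ := CurvLib.nonempty_stalk_pi_of_locFree hr x
      exact ModuleCat.isZero_iff_subsingleton.2 e.toEquiv.subsingleton
    · exact PX.lam_eq_zero k ((hX.mem_pos_iff _).2 ⟨c, _, hpos, hc, rfl⟩) _ (by rw [hX.aug_cl c _ hc]; omega)
  have hDr : FlatMod.IsFinLocFreeOfRank 1 D := by
    simpa using GrassSch.rank_extPow hr hDx
  have hDi : PicF.IsInvertible D := (CohCmpLib.invertible_iff_rank_one _).2 hDr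
  have hdual : FlatMod.IsFinLocFree (MiscFlat6.dual D) := vb_inv (MiscFlat6.dual_isInvertible hDi)
  have h1 : φX (KRR.cl X ((Scheme.Modules.pullback π).obj (MiscFlat6.dual D))) *
      φX (KRR.cl X ((Scheme.Modules.pullback π).obj D)) = 1 := by
    rw [← hX.map_one]
    refine map_tens hX (KFlatLib.isFinLocFree_pull π hdual) (KFlatLib.isFinLocFree_pull π hD) ?_
    rw [← pull_cl, ← pull_cl, ← map_mul, mul_comm, ← cl_tensor,
      cl_eq_one_iff.2 (MiscFlat6.nonempty_dualIso hDi), map_one]
    rfl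
  have key := hstep c
  rw [hDg, htop, zero_add] at key
  rw [← h1, key]
  exact hmulN _ hdual _ (hlk c)

include hX in
/-- **Acyclic bundles generate.** -/
theorem Setting.mem_acyclic [IsNoetherian X] [IsNoetherian Y] [ConnectedSpace X] [ConnectedSpace Y]
    (hs : Setting π F) (x : KX) :
    x ∈ AddSubgroup.closure {z : KX | ∃ E : X.Modules, FlatMod.IsFinLocFree E ∧ Acyc π F E ∧
      φX (KRR.cl X E) = z} := by
  refine KRRRegLib.model_induction hX (motive := fun x => x ∈ AddSubgroup.closure _) (fun E hE => ?_)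
    (zero_mem _) (fun a b ha hb => add_mem ha hb) (fun a ha => neg_mem ha) x
  obtain ⟨G, M, q, hG, hM, hq, hv⟩ := hs.exists_twist hE
  rw [← mul_one (φX (KRR.cl X E))]
  have h1 := one_mem hX hG hM q
  generalize (1 : KX) = o at h1 ⊢
  induction h1 using AddSubgroup.closure_induction with
  | mem z hz =>
    obtain ⟨N, j, hN, rfl⟩ := hz
    have hpN := KFlatLib.isFinLocFree_pull π hN
    have hP : PicF.IsInvertible (CohB1.tensorPow M (j + 1)) := AmpleThLib.tensorPow_isInvertible hM _
    refine AddSubgroup.subset_closure ⟨CohB1.tensorMod ((Scheme.Modules.pullback π).obj N)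
      (CohB1.tensorMod E (CohB1.tensorPow M (j + 1))), vb_tens hpN (vb_tens hE (vb_inv hP)),
      acyc_of_pull_tensor hN (hv j) ?_, ?_⟩
    · simp only [cl_tensor, pull_cl]; ac_rfl
    · rw [(KRRRegLib.cl_tensorPow hX hM (j + 1)).2, mul_left_comm,
        map_tens hX hE (vb_inv hP) (C := CohB1.tensorMod E (CohB1.tensorPow M (j + 1))) (cl_tensor _ _).symm]
      exact (hX.map_mul _ _ hpN (vb_tens hE (vb_inv hP))).symm
  | zero => rw [mul_zero]; exact zero_mem _
  | add a b _ _ ha hb => rw [mul_add]; exact add_mem ha hb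
  | neg a _ ha => rw [mul_neg]; exact neg_mem ha

/-- Agreement on acyclic bundles is agreement. -/
theorem Setting.hom_ext [IsNoetherian X] [IsNoetherian Y] [ConnectedSpace X] [ConnectedSpace Y]
    (hX : KRR.IsModel X KX PX φX) (hs : Setting π F) {A : Type w} [AddCommGroup A] {f₁ f₂ : KX →+ A}
    (h : ∀ E : X.Modules, FlatMod.IsFinLocFree E → Acyc π F E →
      f₁ (φX (KRR.cl X E)) = f₂ (φX (KRR.cl X E))) : f₁ = f₂ := by
  refine AddMonoidHom.ext fun x => ?_
  induction hs.mem_acyclic hX x using AddSubgroup.closure_induction with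
  | mem z hz => obtain ⟨E, hE, ha, rfl⟩ := hz; exact h E hE ha
  | zero => rw [map_zero, map_zero]
  | add a b _ _ ha hb => rw [map_add, map_add, ha, hb]
  | neg a _ ha => rw [map_neg, map_neg, ha]

end Model

end IntShAcyc

end
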