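import Groth.Agent.IntShAcycLib.Gen
import Groth.Agent.LMLib.Duality
import Groth.Prelude.Def_PicGrp

/-!
# The projection formula for twisted push-forwards and determinants of twists
-/

set_option autoImplicit false
set_option linter.style.haveILetI false
set_option linter.unusedSectionVars false
set_option backward.isDefEq.respectTransparency false
set_option backward.isDefEq.respectTransparency.types false
set_option maxHeartbeats 1000000

universe u v w

open CategoryTheory CategoryTheory.Limits AlgebraicGeometry TopologicalSpace Opposite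
open LambdaRing CubeConsLib
open Groth.Agent.KHeartLib (clSub_congr)

noncomputable section

namespace IntShAcyc

open Groth.Agent

variable {X Y : Scheme.{u}} [IsNoetherian X] [IsNoetherian Y] [ConnectedSpace X] [ConnectedSpace Y]
  [HasInjectiveResolutions X.Modules] {π : X ⟶ Y} {F : X.Modules}
  {KX : Type v} [CommRing KX] [LambdaOps KX] {PX : PosStructure KX} {φX : SGA6.Kvb X →+ KX}
  {KY : Type w} [CommRing KY] [LambdaOps KY] {PY : PosStructure KY} {φY : SGA6.Kvb Y →+ KY}

/-- The projection formula for the twisted direct image of one bundle. -/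
theorem Setting.nonempty_push_tensor (hs : Setting π F) {N : Y.Modules} (hN : FlatMod.IsFinLocFree N)
    {E E' : X.Modules} (hE : FlatMod.IsFinLocFree E)
    (h : cl E' = pull π (cl N) * cl E) :
    Nonempty ((Coh.push π).obj (((DCoh.tensorBi (X := X)).obj F).obj E') ≅
      CohB1.tensorMod N ((Coh.push π).obj (((DCoh.tensorBi (X := X)).obj F).obj E))) := by
  haveI := hs.proper
  obtain ⟨e'⟩ := cl_eq_iff.1 (show cl (CohB1.tensorMod F E') =
      cl (CohB1.tensorMod ((Scheme.Modules.pullback π).obj N) (CohB1.tensorMod F E)) by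
    rw [cl_tensor, cl_tensor, cl_tensor, h, pull_cl]; ac_rfl)
  obtain ⟨e⟩ := ProjFormLib.nonempty_projection_formula π N hN (CohB1.tensorMod F E) 0
  have i1 := (Coh.push π).mapIso e'
  have i2 := (CohBCLib.rpushZero π (CohB1.tensorMod ((Scheme.Modules.pullback π).obj N) (CohB1.tensorMod F E))).symm
  have i3 : (Coh.Rpush π 0).obj (CohB1.tensorMod ((Scheme.Modules.pullback π).obj N) (CohB1.tensorMod F E)) ≅
      CohB1.tensorMod N ((Coh.Rpush π 0).obj (CohB1.tensorMod F E)) := e.symm
  have i4 := HilbPolyLib.congrRight N (CohBCLib.rpushZero π (CohB1.tensorMod F E))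
  exact ⟨i1 ≪≫ i2 ≪≫ i3 ≪≫ i4⟩

variable (hX : KRR.IsModel X KX PX φX) (hY : KRR.IsModel Y KY PY φY) {g : KX →+ KY}
  (hg : KDet.IsPushF π F φX φY g)

include hX hY hg in
/-- **The projection formula.** -/
theorem Setting.push_mul_pull (hs : Setting π F) {pX : KY →+ KX} (hpX : KRR.IsPull π φY φX pX) (x : KX) (y : KY) :
    g (x * pX y) = g x * y := by
  haveI := hs.proper
  refine KRRRegLib.model_induction hY (motive := fun y => g (x * pX y) = g x * y) (fun N hN => ?_) (by simp)
    (fun a b ha hb => by simp only [map_add, mul_add, ha, hb])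
    (fun a ha => by simp only [map_neg, mul_neg, ha]) y
  have key : g.comp (AddMonoidHom.mulRight (pX (φY (KRR.cl Y N)))) = (AddMonoidHom.mulRight (φY (KRR.cl Y N))).comp g := by
    refine Setting.hom_ext hX hs fun E hE ha => ?_
    show g (φX (KRR.cl X E) * pX (φY (KRR.cl Y N))) = g (φX (KRR.cl X E)) * φY (KRR.cl Y N)
    have hpN := KFlatLib.isFinLocFree_pull π hN
    let E' := CohB1.tensorMod E ((Scheme.Modules.pullback π).obj N)
    have hcl : cl E' = pull π (cl N) * cl E := by rw [cl_tensor, pull_cl, mul_comm]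
    have hE' : FlatMod.IsFinLocFree E' := vb_tens hE hpN
    have ha' : Acyc π F E' := acyc_of_pull_tensor hN ha
      (by rw [cl_tensor, hcl, show ((DCoh.tensorBi (X := X)).obj F).obj E = CohB1.tensorMod F E from rfl, cl_tensor]; ac_rfl)
    rw [hpX N hN, map_tens hX hE hpN (C := E') (cl_tensor _ _).symm, hg E' hE' ha' (hs.vb_push hE' ha'),
      hg E hE ha (hs.vb_push hE ha), mul_comm]
    refine (congrArg φY (clSub_congr (KRR.vbP Y) (hs.nonempty_push_tensor hN hE hcl).some)).trans ?_
    exact (hY.map_mul N _ hN (hs.vb_push hE ha)).symm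
  exact DFunLike.congr_fun key x

end IntShAcyc

namespace IntShAcyc

open Groth.Agent

variable {Y : Scheme.{u}} [IsNoetherian Y] [ConnectedSpace Y]
  {KY : Type w} [CommRing KY] [LambdaOps KY] {PY : PosStructure KY} {φY : SGA6.Kvb Y →+ KY}

theorem cls_eq_of_cl_eq {L M : Y.Modules} (hL : PicF.IsInvertible L) (hM : PicF.IsInvertible M) (h : cl L = cl M) :
    PicGrp.cls L hL = PicGrp.cls M hM :=
  (PicGrp.cls_eq_cls_iff hL hM).2 (cl_eq_iff.1 h)

theorem cls_pow [PicGrp.Law Y] {L : Y.Modules} (hL : PicF.IsInvertible L) (n : ℕ) :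
    PicGrp.cls (CohB1.tensorPow L n) (AmpleThLib.tensorPow_isInvertible hL n) = PicGrp.cls L hL ^ n :=
  Subtype.ext (PicGrp.cls_pow_val hL n).symm

theorem cls_mul [PicGrp.Law Y] {L M : Y.Modules} (hL : PicF.IsInvertible L) (hM : PicF.IsInvertible M) :
    PicGrp.cls (CohB1.tensorMod L M) (HilbPolyLib.isInvertible_tensor hL hM) = PicGrp.cls L hL * PicGrp.cls M hM :=
  Subtype.ext (PicGrp.cls_mul_cls_val hL hM).symm

theorem det_line [PicGrp.Law Y] {dt : KY →+ Additive (PicLoc.PicSet Y)} (hdt : KDet.IsDet φY dt) {L : Y.Modules}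
    (hL : PicF.IsInvertible L) : dt (φY (KRR.cl Y L)) = Additive.ofMul (PicGrp.cls L hL) :=
  hdt 1 L L hL ((CohCmpLib.invertible_iff_rank_one _).1 hL) (LMLib.isExtPow_one L)

/-- **The determinant of a first Chern class.** -/
theorem det_mul_delta [PicGrp.Law Y] (hY : KRR.IsModel Y KY PY φY) {dt : KY →+ Additive (PicLoc.PicSet Y)}
    (hdt : KDet.IsDet φY dt) {M M' : Y.Modules} (hM : PicF.IsInvertible M) (hM' : PicF.IsInvertible M')
    (hMM' : ClSub.IsInverseOf M M') (y : KY) :
    dt (y * (1 - φY (KRR.cl Y M'))) = PY.aug y • Additive.ofMul (PicGrp.cls M hM) := by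
  refine KRRRegLib.model_induction hY
    (motive := fun y => dt (y * (1 - φY (KRR.cl Y M'))) = PY.aug y • Additive.ofMul (PicGrp.cls M hM))
    (fun N hN => ?_) (by simp) (fun a b ha hb => by rw [add_mul, map_add, ha, hb, map_add, add_zsmul])
    (fun a ha => by rw [neg_mul, map_neg, ha, map_neg, neg_zsmul]) y
  obtain ⟨n, hn⟩ := exists_rank hN
  have hNM : FlatMod.IsFinLocFree (CohB1.tensorMod N M') := vb_tens hN (vb_inv hM')
  have hx : φY (KRR.cl Y N) * φY (KRR.cl Y M') = φY (KRR.cl Y (CohB1.tensorMod N M')) :=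
    map_tens hY hN (vb_inv hM') (cl_tensor _ _).symm
  obtain ⟨r, hr⟩ := exists_rank hNM
  obtain rfl : n = r := by
    have := congrArg PY.aug hx
    rw [map_mul, hY.aug_cl n N hn, hY.aug_cl r _ hr, hY.aug_cl 1 M' ((CohCmpLib.invertible_iff_rank_one _).1 hM')] at this
    simpa using this
  obtain ⟨D, hD, hDx⟩ := ExtPowLib.exists_isExtPow_vb hN n
  obtain ⟨D', hD', hD'x⟩ := ExtPowLib.exists_isExtPow_vb hNM n
  have hDi : PicF.IsInvertible D :=
    (CohCmpLib.invertible_iff_rank_one _).2 (by simpa using GrassSch.rank_extPow hn hDx)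
  have hD'i : PicF.IsInvertible D' :=
    (CohCmpLib.invertible_iff_rank_one _).2 (by simpa using GrassSch.rank_extPow hr hD'x)
  have hPi : PicF.IsInvertible (CohB1.tensorPow M' n) := AmpleThLib.tensorPow_isInvertible hM' n
  have e : φY (KRR.cl Y D') = φY (KRR.cl Y (CohB1.tensorMod (CohB1.tensorPow M' n) D)) := by
    rw [← hY.map_lam n _ D' hNM hD' hD'x, ← hx, mul_comm, KRRRegLib.lam_line_mul hY hM',
      hY.map_lam n N D hN hD hDx, (KRRRegLib.cl_tensorPow hY hM' n).2]
    exact map_tens hY (vb_inv hPi) hD (cl_tensor _ _).symm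
  have e' : Additive.ofMul (PicGrp.cls D' hD'i) =
      n • Additive.ofMul (PicGrp.cls M' hM') + Additive.ofMul (PicGrp.cls D hDi) := by
    rw [← det_line hdt hD'i, e, det_line hdt (HilbPolyLib.isInvertible_tensor hPi hDi), cls_mul hPi hDi, ofMul_mul,
      cls_pow hM' n, ofMul_pow]
  have hinv : Additive.ofMul (PicGrp.cls M' hM') = -Additive.ofMul (PicGrp.cls M hM) := by
    rw [← ofMul_inv, PicGrp.cls_inv_eq_cls hM hM' hMM']
  rw [mul_sub, mul_one, map_sub, hx, hdt n N D hDi hn hDx, hdt n _ D' hD'i hr hD'x, e', hinv, hY.aug_cl n N hn,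
    natCast_zsmul, smul_neg]
  abel

end IntShAcyc

end
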